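import Groth.Agent.RedPts.Basic

/-! Coordinates of points of `𝔾ₐ` and `𝔾ₘ` over any scheme. -/

suppress_compilation
universe u

open CategoryTheory MonoidalCategory CartesianMonoidalCategory MonObj GrpObj AlgebraicGeometry Limits WithConv
open scoped CategoryTheory.Obj TensorProduct

namespace Groth.Agent.RedPts

open Groth.Agent.GmChar (zlAlg zl_commutes spMap spMap_mul spMap_injective sp)

attribute [-instance] ULift.module

variable {S : Scheme.{u}} {X : Over S}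

theorem ptAlg_mul {H : Type u} [CommRing H] [HopfAlgebra Z.{u} H]
    (x y : X ⟶ Red.bc (toZ S) (sp Z.{u} H)) : letI := zlAlg Γ(X.left, ⊤)
    toConv (ptAlg (x * y)) = toConv (ptAlg x) * toConv (ptAlg y) := by
  let := zlAlg Γ(X.left, ⊤)
  apply WithConv.ofConv_injective
  apply toΓ_spMap_injective
  show toΓ X ≫ spMap (ptAlg (x * y)) = toΓ X ≫ spMap _
  rw [spMap_mul, ofConv_toConv, ofConv_toConv, MonObj.comp_mul, toΓ_spMap_ptAlg, toΓ_spMap_ptAlg,
    toΓ_spMap_ptAlg]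
  exact homEquiv_symm_mul x y

abbrev HA := SymmetricAlgebra Z.{u} Z.{u}
abbrev HM := MonoidAlgebra Z.{u} (Multiplicative ℤ)

theorem gaFn_eq (x : X ⟶ Red.Ga S) :
    Red.gaFn x = ptRing (H := HA.{u}) x (SymmetricAlgebra.ι Z.{u} Z.{u} (ULift.up 1)) := rfl

theorem gmFn_eq (x : X ⟶ Red.Gm S) :
    Red.gmFn x = ptRing (H := HM.{u}) x (MonoidAlgebra.single (Multiplicative.ofAdd (1 : ℤ)) 1) := rfl

theorem gaFn_mul (x y : X ⟶ Red.Ga S) : Red.gaFn (x * y) = Red.gaFn x + Red.gaFn y := by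
  let := zlAlg Γ(X.left, ⊤)
  have h := congrArg (fun f : WithConv (HA.{u} →ₐ[Z.{u}] Γ(X.left, ⊤)) =>
    f.ofConv (SymmetricAlgebra.ι Z.{u} Z.{u} (ULift.up 1))) (ptAlg_mul (H := HA.{u}) x y)
  simp only [AlgHom.convMul_def, AlgHom.comp_apply, Bialgebra.comulAlgHom_apply, SymmetricAlgebra.comul_ι,
    ofConv_toConv] at h
  rw [gaFn_eq, gaFn_eq, gaFn_eq]
  refine h.trans ?_
  simp only [map_add, Algebra.TensorProduct.map_tmul, map_one, AlgHom.coe_comp, Function.comp_apply]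
  erw [Algebra.TensorProduct.lmul'_apply_tmul, Algebra.TensorProduct.lmul'_apply_tmul, _root_.one_mul, _root_.mul_one]
  rfl

theorem gmFn_mul (x y : X ⟶ Red.Gm S) : Red.gmFn (x * y) = Red.gmFn x * Red.gmFn y := by
  let := zlAlg Γ(X.left, ⊤)
  have h := congrArg (fun f : WithConv (HM.{u} →ₐ[Z.{u}] Γ(X.left, ⊤)) =>
    f.ofConv (MonoidAlgebra.single (Multiplicative.ofAdd (1 : ℤ)) 1)) (ptAlg_mul (H := HM.{u}) x y)
  rw [gmFn_eq, gmFn_eq, gmFn_eq]
  refine h.trans ?_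
  simp [AlgHom.convMul_def]
  rfl

theorem gaFn_injective : Function.Injective (Red.gaFn : (X ⟶ Red.Ga S) → _) := by
  let := zlAlg Γ(X.left, ⊤)
  intro x y h
  refine ptRing_injective (H := HA.{u}) ?_
  suffices ptAlg (H := HA.{u}) x = ptAlg (H := HA.{u}) y from congrArg (·.toRingHom) this
  exact SymmetricAlgebra.algHom_ext (LinearMap.ext_ring h)

theorem exists_gaFn (a : Γ(X.left, ⊤)) : ∃ x : X ⟶ Red.Ga S, Red.gaFn x = a := by
  let := zlAlg Γ(X.left, ⊤)
  obtain ⟨x, hx⟩ := exists_ptRing (S := S) (H := HA.{u})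
    (SymmetricAlgebra.lift ((LinearMap.mulRight Z.{u} a).comp (Algebra.linearMap Z.{u} Γ(X.left, ⊤)))).toRingHom
  refine ⟨x, ?_⟩
  rw [gaFn_eq, show ptRing (H := HA.{u}) x = _ from hx]
  show SymmetricAlgebra.lift _ _ = a
  rw [SymmetricAlgebra.lift_ι_apply]
  show algebraMap Z.{u} Γ(X.left, ⊤) 1 * a = a
  rw [map_one, _root_.one_mul]

theorem gmFn_injective : Function.Injective (Red.gmFn : (X ⟶ Red.Gm S) → _) := by
  let := zlAlg Γ(X.left, ⊤)
  intro x y h
  refine ptRing_injective (H := HM.{u}) ?_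
  suffices ptAlg (H := HM.{u}) x = ptAlg (H := HM.{u}) y from congrArg (·.toRingHom) this
  apply (MonoidAlgebra.lift Z.{u} Γ(X.left, ⊤) (Multiplicative ℤ)).symm.injective
  exact MonoidHom.ext_mint h

theorem exists_gmFn (a : Γ(X.left, ⊤)ˣ) : ∃ x : X ⟶ Red.Gm S, Red.gmFn x = a := by
  let := zlAlg Γ(X.left, ⊤)
  let φ := MonoidAlgebra.lift Z.{u} Γ(X.left, ⊤) (Multiplicative ℤ)
    ((Units.coeHom _).comp (zpowersHom Γ(X.left, ⊤)ˣ a))
  obtain ⟨x, hx⟩ := exists_ptRing (S := S) (H := HM.{u}) φ.toRingHom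
  refine ⟨x, ?_⟩
  rw [gmFn_eq, show ptRing (H := HM.{u}) x = _ from hx]
  show φ _ = _
  simp [φ]
  rw [Algebra.smul_def, map_one, _root_.one_mul]

theorem gmFn_one : Red.gmFn (1 : X ⟶ Red.Gm S) = 1 := by
  obtain ⟨x, hx⟩ := exists_gmFn (S := S) (X := X) 1
  have h := gmFn_mul x (1 : X ⟶ Red.Gm S)
  rw [_root_.mul_one, hx, Units.val_one, _root_.one_mul] at h
  exact h.symm

theorem isUnit_gmFn (x : X ⟶ Red.Gm S) : IsUnit (Red.gmFn x) :=
  IsUnit.of_mul_eq_one _ (by rw [← gmFn_mul, mul_inv_cancel, gmFn_one] : Red.gmFn x * Red.gmFn x⁻¹ = 1)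

theorem gaFn_comp {Y : Over S} (f : Y ⟶ X) (x : X ⟶ Red.Ga S) :
    Red.gaFn (f ≫ x) = f.left.appTop (Red.gaFn x) := by
  simp [Red.gaFn]

theorem gmFn_comp {Y : Over S} (f : Y ⟶ X) (x : X ⟶ Red.Gm S) :
    Red.gmFn (f ≫ x) = f.left.appTop (Red.gmFn x) := by
  simp [Red.gmFn]

/-- A surjective flat cover on which `s * (1 - s) = 1` has a solution. -/
theorem exists_epi_cover (X : Over S) :
    ∃ (Y : Over S) (f : Y ⟶ X) (s : Γ(Y.left, ⊤)), Epi f ∧ s * (1 - s) = 1 := by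
  let P : Polynomial Z.{u} := Polynomial.X ^ 2 - Polynomial.X + 1
  have hP : P.Monic := by simp only [P]; monicity!
  let g : Spec (CommRingCat.of (AdjoinRoot P)) ⟶ Spec (CommRingCat.of Z.{u}) :=
    Spec.map (CommRingCat.ofHom (algebraMap Z.{u} (AdjoinRoot P)))
  have : Module.Free Z.{u} (AdjoinRoot P) := hP.free_adjoinRoot
  have : IsDomain Z.{u} := MulEquiv.isDomain ℤ ULift.ringEquiv.toMulEquiv
  have : Nontrivial (AdjoinRoot P) := AdjoinRoot.nontrivial P (by
    have hd : P.degree = 2 := by simp only [P]; compute_degree!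
    rw [hd]; decide)
  have : Flat g := by
    rw [HasRingHomProperty.Spec_iff (P := @Flat), CommRingCat.hom_ofHom, RingHom.flat_algebraMap_iff]
    infer_instance
  have : Surjective g := ⟨fun p => PrimeSpectrum.comap_surjective_of_faithfullyFlat (A := Z.{u}) (B := AdjoinRoot P) p⟩
  let W := pullback (toZ X.left) g
  let f : Over.mk (pullback.fst (toZ X.left) g ≫ X.hom) ⟶ X := Over.homMk (pullback.fst _ _)
  have : Epi f.left := Flat.epi_of_flat_of_surjective (pullback.fst (toZ X.left) g)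
  refine ⟨_, f, ((Scheme.ΓSpecIso (CommRingCat.of (AdjoinRoot P))).inv ≫
    (show W ⟶ Spec (CommRingCat.of (AdjoinRoot P)) from pullback.snd _ _).appTop) (AdjoinRoot.root P),
    Over.epi_of_epi_left f, ?_⟩
  have hr : AdjoinRoot.root P * (1 - AdjoinRoot.root P) = (1 : (AdjoinRoot P)) := by
    have h := AdjoinRoot.eval₂_root P
    simp only [P, Polynomial.eval₂_add, Polynomial.eval₂_sub, Polynomial.eval₂_one, Polynomial.eval₂_X_pow,
      Polynomial.eval₂_X] at h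
    linear_combination -h
  have h := congrArg ((Scheme.ΓSpecIso (CommRingCat.of (AdjoinRoot P))).inv ≫
    (show W ⟶ Spec (CommRingCat.of (AdjoinRoot P)) from pullback.snd _ _).appTop).hom hr
  rw [map_mul, map_sub, map_one] at h
  exact h

end Groth.Agent.RedPts
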