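import Groth.Agent.RedPts.Coord
import Groth.Prelude.Def_TwC
import Groth.Prelude.Def_NonAbH2

/-! The Artin–Schreier sequence. -/

suppress_compilation
universe u

open CategoryTheory MonoidalCategory CartesianMonoidalCategory MonObj GrpObj AlgebraicGeometry Limits
open scoped CategoryTheory.Obj

namespace Groth.Agent.RedPts.AS

attribute [-instance] ULift.module

section Ring

variable {R : Type*} [CommRing R] (p : ℕ) [Fact p.Prime]

/-- The map from `ℤ/p` to a ring in which `p = 0`. -/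
def ofZMod (hp : (p : R) = 0) : ZMod p →+* R :=
  ZMod.castHom (ringChar.dvd hp) R

variable {p} (hp : (p : R) = 0)
include hp

theorem add_pow_p (a b : R) : (a + b) ^ p = a ^ p + b ^ p := by
  obtain ⟨r, hr⟩ := exists_add_pow_prime_eq (Fact.out : p.Prime) a b
  rw [hr, hp]
  ring

theorem sub_pow_p (a b : R) : (a - b) ^ p = a ^ p - b ^ p :=
  eq_sub_iff_add_eq.2 (by rw [← add_pow_p hp, sub_add_cancel])

theorem ofZMod_pow (m : ZMod p) : ofZMod p hp m ^ p = ofZMod p hp m := by
  rw [← map_pow, ZMod.pow_card]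

/-- The idempotent attached to a root of `T ^ p - T` and an element of `ℤ/p`. -/
def idem (t : R) (m : ZMod p) : R := 1 - (t - ofZMod p hp m) ^ (p - 1)

theorem sub_mul_idem {t : R} (ht : t ^ p = t) (m : ZMod p) :
    (t - ofZMod p hp m) * idem hp t m = 0 := by
  rw [idem, mul_sub, _root_.mul_one, ← _root_.pow_succ', Nat.sub_one_add_one (Fact.out : p.Prime).ne_zero,
    sub_pow_p hp, ht, ofZMod_pow hp, sub_self]

theorem idem_mul_idem {t : R} (ht : t ^ p = t) {m n : ZMod p} (h : m ≠ n) :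
    idem hp t m * idem hp t n = 0 := by
  have hu : IsUnit (ofZMod p hp (n - m)) := (isUnit_iff_ne_zero.2 (sub_ne_zero.2 (Ne.symm h))).map _
  apply (hu.mul_right_eq_zero).1
  rw [map_sub]
  linear_combination (idem hp t n) * sub_mul_idem hp ht m - (idem hp t m) * sub_mul_idem hp ht n

omit hp in
theorem exists_eq_ofZMod {K : Type*} [Field K] (hK : (p : K) = 0) {x : K} (hx : x ^ p = x) :
    ∃ m : ZMod p, x = ofZMod p hK m := by
  have : CharP K p := (CharP.charP_iff_prime_eq_zero Fact.out).2 hK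
  obtain ⟨n, rfl⟩ := (_root_.mem_bot_iff_intCast p K).1 ((Subfield.mem_bot_iff_pow_eq_self K p).2 hx)
  exact ⟨n, (map_intCast _ n).symm⟩

omit hp in
theorem map_ofZMod {R' : Type*} [CommRing R'] (f : R →+* R') (hp : (p : R) = 0) (hp' : (p : R') = 0)
    (m : ZMod p) : f (ofZMod p hp m) = ofZMod p hp' m :=
  RingHom.congr_fun (Subsingleton.elim (f.comp (ofZMod p hp)) (ofZMod p hp')) m

end Ring

section Scheme

variable {p : ℕ} [Fact p.Prime] {S : Scheme.{u}}

theorem cast_eq_zero (hp : (p : Γ(S, ⊤)) = 0) {X : Scheme.{u}} (f : X ⟶ S) : (p : Γ(X, ⊤)) = 0 := by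
  rw [← map_natCast f.appTop.hom, hp, map_zero]

/-- The opens where a root of `T ^ p - T` takes a given value. -/
theorem isOpenCover_idem {X : Scheme.{u}} (hX : (p : Γ(X, ⊤)) = 0) {t : Γ(X, ⊤)} (ht : t ^ p = t) :
    ∀ x : X, ∃ m : ZMod p, x ∈ X.basicOpen (idem hX t m) := by
  intro x
  let ev := (X.evaluation ⊤ x (TopologicalSpace.Opens.mem_top x)).hom
  have hK : (p : X.residueField x) = 0 := by rw [← map_natCast ev, hX, map_zero]
  obtain ⟨m, hm⟩ := exists_eq_ofZMod hK (show ev t ^ p = ev t by rw [← map_pow, ht])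
  refine ⟨m, (X.evaluation_ne_zero_iff_mem_basicOpen x (TopologicalSpace.Opens.mem_top x) _).1 ?_⟩
  show ev (idem hX t m) ≠ 0
  rw [idem, map_sub, map_one, map_pow, map_sub, map_ofZMod ev hX hK, ← hm, sub_self,
    zero_pow (Nat.sub_ne_zero_of_lt (Fact.out : p.Prime).one_lt), sub_zero]
  exact one_ne_zero

variable (hp : (p : Γ(S, ⊤)) = 0)
  (F : Red.Ga S ⟶ Red.Ga S) (hF : ∀ (T : Over S) (x : T ⟶ Red.Ga S), Red.gaFn (x ≫ F) = Red.gaFn x ^ p)
  {G' : Over S} [GrpObj G'] (e : G' ≅ TwC.const S (Multiplicative (ZMod p)))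
  (he : TwC.IsConstGrp (Multiplicative (ZMod p)) G' e)
  (i : G' ⟶ Red.Ga S) [IsMonHom i]
  (hi : Red.gaFn (TwC.pt S (Multiplicative (ZMod p)) (Multiplicative.ofAdd 1) ≫ e.inv ≫ i) = 1)

theorem gaFn_one {X : Over S} : Red.gaFn (1 : X ⟶ Red.Ga S) = 0 := by
  have h := gaFn_mul (1 : X ⟶ Red.Ga S) 1
  rw [_root_.mul_one] at h
  exact left_eq_add.1 h

theorem gaFn_inv {X : Over S} (x : X ⟶ Red.Ga S) : Red.gaFn x⁻¹ = -Red.gaFn x := by
  have h := gaFn_mul x⁻¹ x
  rw [inv_mul_cancel, gaFn_one] at h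
  exact eq_neg_of_add_eq_zero_left h.symm

/-- `x ↦ x - x ^ p`. -/
def P : Red.Ga S ⟶ Red.Ga S := 𝟙 (Red.Ga S) * F⁻¹

include hF in
theorem gaFn_P {X : Over S} (x : X ⟶ Red.Ga S) :
    Red.gaFn (x ≫ P F) = Red.gaFn x - Red.gaFn x ^ p := by
  rw [P, MonObj.comp_mul, Category.comp_id, GrpObj.comp_inv, gaFn_mul, gaFn_inv, hF, sub_eq_add_neg]

include hp hF in
theorem mul_P {X : Over S} (x y : X ⟶ Red.Ga S) : (x * y) ≫ P F = (x ≫ P F) * (y ≫ P F) := by
  apply gaFn_injective
  rw [gaFn_mul, gaFn_P F hF, gaFn_P F hF, gaFn_P F hF, gaFn_mul, add_pow_p (cast_eq_zero hp X.hom)]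
  ring

include hF in
theorem one_P {X : Over S} : (1 : X ⟶ Red.Ga S) ≫ P F = 1 := by
  apply gaFn_injective
  rw [gaFn_P F hF, gaFn_one, zero_pow (Fact.out : p.Prime).ne_zero, sub_zero]

include hp hF in
theorem isMonHom_P : IsMonHom (P F) where
  one_hom := by
    have h := one_P (p := p) F hF (X := 𝟙_ (Over S))
    rw [CategoryTheory.Hom.one_def, toUnit_unique (toUnit (𝟙_ (Over S))) (𝟙 _), Category.id_comp] at h
    exact h
  mul_hom := by
    have hμ : μ[Red.Ga S] = fst (Red.Ga S) (Red.Ga S) * snd (Red.Ga S) (Red.Ga S) := by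
      rw [CategoryTheory.Hom.mul_def, lift_fst_snd, Category.id_comp]
    conv_lhs => rw [hμ, mul_P hp F hF]
    rw [hμ, MonObj.comp_mul, tensorHom_fst, tensorHom_snd]

/-- The point of index `m`. -/
def cpt (X : Over S) (m : ZMod p) : X ⟶ G' :=
  toUnit X ≫ TwC.pt S (Multiplicative (ZMod p)) (Multiplicative.ofAdd m) ≫ e.inv

include he hi in
theorem gaFn_cpt (X : Over S) (m : ZMod p) :
    Red.gaFn (cpt e X m ≫ i) = ofZMod p (cast_eq_zero hp X.hom) m := by
  let c : ZMod p → (X ⟶ G') := cpt e X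
  have hadd : ∀ a b, c a * c b = c (a + b) := fun a b => by
    show cpt e X a * cpt e X b = cpt e X (a + b)
    rw [cpt, cpt, cpt, ← MonObj.comp_mul, he, ← ofAdd_add]
  let f : ZMod p →+ Γ(X.left, ⊤) := AddMonoidHom.mk' (fun a => Red.gaFn (c a ≫ i)) fun a b => by
    rw [← hadd, MonObj.mul_comp, gaFn_mul]
  have h1 : f 1 = 1 := by
    show Red.gaFn (cpt e X 1 ≫ i) = 1
    rw [cpt, Category.assoc, Category.assoc, gaFn_comp, hi, map_one]
  have h2 : f = (ofZMod p (cast_eq_zero hp X.hom)).toAddMonoidHom := by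
    ext a
    obtain ⟨k, rfl⟩ := ZMod.natCast_zmod_surjective a
    rw [← nsmul_one k, map_nsmul, map_nsmul, h1]
    simp
  exact DFunLike.congr_fun h2 m

variable {X : Over S}

/-- An open of `X`, over `S`. -/
abbrev res (X : Over S) (W : X.left.Opens) : Over S := Over.mk (W.ι ≫ X.hom)

/-- Its inclusion. -/
abbrev resι (X : Over S) (W : X.left.Opens) : res X W ⟶ X := Over.homMk W.ι

omit [Fact p.Prime] [GrpObj G'] in
theorem resι_eq_cpt (z : X ⟶ G') (W : X.left.Opens) (m : ZMod p)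
    (h : Set.range (W.ι ≫ z.left ≫ e.hom.left) ⊆
      Set.range (Sigma.ι (fun _ : Multiplicative (ZMod p) => S) (Multiplicative.ofAdd m))) :
    resι X W ≫ z = cpt e (res X W) m := by
  rw [← cancel_mono e.hom, cpt, Category.assoc, Category.assoc, Category.assoc, e.inv_hom_id,
    Category.comp_id]
  apply Over.OverMorphism.ext
  let g := Sigma.ι (fun _ : Multiplicative (ZMod p) => S) (Multiplicative.ofAdd m)
  let l := IsOpenImmersion.lift g (W.ι ≫ z.left ≫ e.hom.left) h
  have hl : l ≫ g = W.ι ≫ z.left ≫ e.hom.left := IsOpenImmersion.lift_fac _ _ h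
  have hl2 : l = W.ι ≫ X.hom := by
    calc l = (l ≫ g) ≫ Sigma.desc fun _ : Multiplicative (ZMod p) => 𝟙 S := by simp [g]
      _ = W.ι ≫ z.left ≫ (e.hom.left ≫ (TwC.const S (Multiplicative (ZMod p))).hom) := by
          rw [hl, Category.assoc, Category.assoc]
          rfl
      _ = W.ι ≫ X.hom := by rw [Over.w, Over.w]
  show W.ι ≫ z.left ≫ e.hom.left = (W.ι ≫ X.hom) ≫ g
  rw [← hl, hl2]

omit [Fact p.Prime] [GrpObj G'] in
theorem exists_glue {X G : Over S} {J : Type} (U : J → X.left.Opens) (hU : TopologicalSpace.IsOpenCover U)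
    (hd : ∀ m n, m ≠ n → U m ⊓ U n = ⊥) (q : ∀ m, res X (U m) ⟶ G) :
    ∃ z : X ⟶ G, ∀ m, resι X (U m) ≫ z = q m := by
  let 𝒰 := X.left.openCoverOfIsOpenCover U hU
  have hemp : ∀ m n, m ≠ n → IsEmpty (pullback (U m).ι (U n).ι :) := fun m n hmn => ⟨fun w => by
    have h1 : (pullback.fst (U m).ι (U n).ι ≫ (U m).ι) w ∈ U m ⊓ U n := by
      refine ⟨(pullback.fst (U m).ι (U n).ι w).2, ?_⟩
      rw [pullback.condition]
      exact (pullback.snd (U m).ι (U n).ι w).2
    rw [hd m n hmn] at h1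
    exact h1⟩
  let zl : X.left ⟶ G.left := 𝒰.glueMorphisms (fun m => (q m).left) fun m n => by
    by_cases hmn : m = n
    · subst hmn
      have hfs : pullback.fst (U m).ι (U m).ι = pullback.snd (U m).ι (U m).ι :=
        (cancel_mono (U m).ι).1 pullback.condition
      exact congrArg (· ≫ (q m).left) hfs
    · have := hemp m n hmn
      exact (@isInitialOfIsEmpty (pullback (U m).ι (U n).ι) this).hom_ext _ _
  have hzl : ∀ m, (U m).ι ≫ zl = (q m).left := 𝒰.ι_glueMorphisms _ _
  clear_value zl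
  have hz : zl ≫ G.hom = X.hom := 𝒰.hom_ext _ _ fun m => by
    show (U m).ι ≫ zl ≫ G.hom = (U m).ι ≫ X.hom
    rw [← Category.assoc, hzl]
    exact Over.w (q m)
  exact ⟨Over.homMk zl hz, fun m => Over.OverMorphism.ext (hzl m)⟩

omit [Fact p.Prime] [GrpObj G'] in
theorem res_hom_ext {X G : Over S} {J : Type} (U : J → X.left.Opens) (hU : TopologicalSpace.IsOpenCover U)
    {f g : X ⟶ G} (h : ∀ m, resι X (U m) ≫ f = resι X (U m) ≫ g) : f = g :=
  Over.OverMorphism.ext ((X.left.openCoverOfIsOpenCover U hU).hom_ext _ _ fun m =>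
    congrArg CommaMorphism.left (h m))

include hp he hi in
theorem i_cancel {z z' : X ⟶ G'} (h : z ≫ i = z' ≫ i) : z = z' := by
  apply Over.OverMorphism.ext
  refine Scheme.hom_ext_of_forall _ _ fun x => ?_
  let g := fun m : Multiplicative (ZMod p) => Sigma.ι (fun _ : Multiplicative (ZMod p) => S) m
  obtain ⟨m, a, ha⟩ := (sigmaOpenCover (fun _ : Multiplicative (ZMod p) => S)).exists_eq
    ((z.left ≫ e.hom.left) x)
  obtain ⟨n, b, hb⟩ := (sigmaOpenCover (fun _ : Multiplicative (ZMod p) => S)).exists_eq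
    ((z'.left ≫ e.hom.left) x)
  obtain ⟨m, rfl⟩ : ∃ k, Multiplicative.ofAdd k = m := ⟨_, ofAdd_toAdd m⟩
  obtain ⟨n, rfl⟩ : ∃ k, Multiplicative.ofAdd k = n := ⟨_, ofAdd_toAdd n⟩
  let W : X.left.Opens := (z.left ≫ e.hom.left) ⁻¹ᵁ (g (Multiplicative.ofAdd m)).opensRange ⊓
    (z'.left ≫ e.hom.left) ⁻¹ᵁ (g (Multiplicative.ofAdd n)).opensRange
  have hx : x ∈ W := ⟨⟨a, ha⟩, ⟨b, hb⟩⟩
  have h1 : resι X W ≫ z = cpt e (res X W) m := resι_eq_cpt e z W m (by
    rintro _ ⟨w, rfl⟩
    exact w.2.1)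
  have h2 : resι X W ≫ z' = cpt e (res X W) n := resι_eq_cpt e z' W n (by
    rintro _ ⟨w, rfl⟩
    exact w.2.2)
  have hmn : m = n := by
    let w : (res X W).left := ⟨x, hx⟩
    have : Nontrivial Γ((res X W).left, ⊤) :=
      ((res X W).left.evaluation ⊤ w (TopologicalSpace.Opens.mem_top w)).hom.domain_nontrivial
    refine (ofZMod p (cast_eq_zero hp (res X W).hom)).injective ?_
    rw [← gaFn_cpt hp e he i hi, ← gaFn_cpt hp e he i hi, ← h1, ← h2, Category.assoc, Category.assoc, h]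
  exact ⟨W, hx, congrArg CommaMorphism.left
    (show resι X W ≫ z = resι X W ≫ z' by rw [h1, hmn, h2])⟩

include hp hF he hi in
theorem exists_lift (c : X ⟶ Red.Ga S) (hc : c ≫ P F = 1) : ∃ z : X ⟶ G', z ≫ i = c := by
  have hX : (p : Γ(X.left, ⊤)) = 0 := cast_eq_zero hp X.hom
  have ht : Red.gaFn c ^ p = Red.gaFn c := by
    have h := gaFn_P F hF c
    rw [hc, gaFn_one] at h
    exact (sub_eq_zero.1 h.symm).symm
  let U : ZMod p → X.left.Opens := fun m => X.left.basicOpen (idem hX (Red.gaFn c) m)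
  have hU : TopologicalSpace.IsOpenCover U :=
    TopologicalSpace.Opens.ext (Set.eq_univ_of_forall fun x => by
      rw [TopologicalSpace.Opens.coe_iSup]
      obtain ⟨m, hm⟩ := isOpenCover_idem hX ht x
      exact Set.mem_iUnion.2 ⟨m, hm⟩)
  obtain ⟨z, hz⟩ := exists_glue U hU (fun m n hmn => by
    simp only [U, ← Scheme.basicOpen_mul, idem_mul_idem hX ht hmn, Scheme.basicOpen_zero])
    (fun m => cpt e (res X (U m)) m)
  refine ⟨z, res_hom_ext U hU fun m => ?_⟩
  have h1 := hz m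
  rw [← Category.assoc, h1]
  apply gaFn_injective
  rw [gaFn_cpt hp e he i hi, gaFn_comp]
  let r := (resι X (U m)).left.appTop.hom
  have hu : IsUnit (r (idem hX (Red.gaFn c) m)) := by
    have : IsUnit ((U m).ι.appTop.hom (idem hX (Red.gaFn c) m)) := by
      refine RingedSpace.isUnit_of_isUnit_germ (U m).toScheme.toRingedSpace ⊤ _ fun x _ => ?_
      refine ((U m).toScheme.mem_basicOpen_top _ x).1 ?_
      rw [← Scheme.preimage_basicOpen_top]
      exact x.2
    exact this
  have h3 : (r (Red.gaFn c) - r (ofZMod p hX m)) * r (idem hX (Red.gaFn c) m) = 0 := by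
    rw [← map_sub, ← map_mul, sub_mul_idem hX ht m, map_zero]
  have h4 := map_ofZMod r hX (cast_eq_zero hp (res X (U m)).hom) m
  have h5 := sub_eq_zero.1 (hu.mul_left_eq_zero.1 h3)
  exact (h5.trans h4).symm

include hp hF he hi in
theorem comp_P : i ≫ P F = 1 := by
  have := isMonHom_P hp F hF
  apply Over.OverMorphism.ext
  refine Scheme.hom_ext_of_forall _ _ fun x => ?_
  obtain ⟨m, a, ha⟩ := (sigmaOpenCover (fun _ : Multiplicative (ZMod p) => S)).exists_eq (e.hom.left x)
  obtain ⟨m, rfl⟩ : ∃ k, Multiplicative.ofAdd k = m := ⟨_, ofAdd_toAdd m⟩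
  let g := Sigma.ι (fun _ : Multiplicative (ZMod p) => S) (Multiplicative.ofAdd m)
  let W : G'.left.Opens := e.hom.left ⁻¹ᵁ g.opensRange
  have h1 : resι G' W ≫ 𝟙 G' = cpt e (res G' W) m := resι_eq_cpt e (𝟙 G') W m (by
    rintro _ ⟨w, rfl⟩
    exact w.2)
  refine ⟨W, ⟨a, ha⟩, ?_⟩
  suffices resι G' W ≫ i ≫ P F = resι G' W ≫ 1 from congrArg CommaMorphism.left this
  rw [← Category.id_comp i, Category.assoc, ← Category.assoc, h1, MonObj.comp_one, ← Category.assoc]
  apply gaFn_injective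
  rw [gaFn_P F hF, gaFn_cpt hp e he i hi, ofZMod_pow, sub_self, gaFn_one]

include hp hF he hi in
theorem isPullback :
    IsPullback (fst (Red.Ga S) G') ((Red.Ga S ◁ i) ≫ μ[Red.Ga S]) (P F) (P F) := by
  have := isMonHom_P hp F hF
  have hq : (Red.Ga S ◁ i) ≫ μ[Red.Ga S] = fst (Red.Ga S) G' * (snd (Red.Ga S) G' ≫ i) := by
    rw [CategoryTheory.Hom.mul_def]
    congr 1
  rw [hq]
  have comm : fst (Red.Ga S) G' ≫ P F = (fst (Red.Ga S) G' * (snd (Red.Ga S) G' ≫ i)) ≫ P F := by
    rw [MonObj.mul_comp, Category.assoc, comp_P hp F hF e he i hi, MonObj.comp_one, _root_.mul_one]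
  have hl : ∀ s : PullbackCone (P F) (P F), ∃ z : s.pt ⟶ G', z ≫ i = s.fst⁻¹ * s.snd := fun s => by
    refine exists_lift hp F hF e he i hi _ ?_
    rw [MonObj.mul_comp, ← s.condition, ← MonObj.mul_comp, inv_mul_cancel, MonObj.one_comp]
  choose z hz using hl
  refine ⟨⟨comm⟩, ⟨PullbackCone.IsLimit.mk _ (fun s => lift s.fst (z s))
    (fun s => lift_fst _ _) (fun s => ?_) (fun s m hm1 hm2 => ?_)⟩⟩
  · refine (MonObj.comp_mul _ _ _).trans ?_
    rw [← Category.assoc, lift_fst, lift_snd, hz, mul_inv_cancel_left]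
  · apply CartesianMonoidalCategory.hom_ext
    · exact hm1.trans (lift_fst _ _).symm
    · refine (i_cancel hp e he i hi ?_).trans (lift_snd _ _).symm
      rw [hz, eq_inv_mul_iff_mul_eq, ← hm1, Category.assoc, ← MonObj.comp_mul]
      exact hm2

end Scheme

section Cover

open Polynomial in
theorem asMap_props (R : Type u) [CommRing R] [IsDomain R] (n : ℕ) (hn : 1 < n) :
    let χ := CommRingCat.ofHom (Polynomial.aeval (R := R) (Polynomial.X - Polynomial.X ^ n : R[X])).toRingHom
    Flat (Spec.map χ) ∧ LocallyOfFinitePresentation (Spec.map χ) ∧ Surjective (Spec.map χ) := by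
  intro χ
  let f : Polynomial R[X] := Polynomial.X ^ n - (Polynomial.X - Polynomial.C Polynomial.X)
  have hd : (Polynomial.X - Polynomial.C Polynomial.X : Polynomial R[X]).degree < n := by
    rw [Polynomial.degree_X_sub_C]; exact_mod_cast hn
  have hf : f.Monic := Polynomial.monic_X_pow_sub hd
  have hdeg : f.degree ≠ 0 := by
    rw [show f = Polynomial.X ^ n - (Polynomial.X - Polynomial.C Polynomial.X) from rfl,
      Polynomial.degree_sub_eq_left_of_degree_lt (by rwa [Polynomial.degree_X_pow]), Polynomial.degree_X_pow]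
    exact_mod_cast (show n ≠ 0 by omega)
  let B := AdjoinRoot f
  let am := algebraMap R[X] B
  let fwd : R[X] →+* B :=
    Polynomial.eval₂RingHom (am.comp Polynomial.C) (AdjoinRoot.root f)
  let χ' : R[X] →+* R[X] := χ.hom
  have hX : χ' Polynomial.X = Polynomial.X - Polynomial.X ^ n := Polynomial.aeval_X _
  let back : B →+* R[X] := AdjoinRoot.lift χ' Polynomial.X (by
    simp only [f, Polynomial.eval₂_sub, Polynomial.eval₂_X_pow, Polynomial.eval₂_X, Polynomial.eval₂_C, hX]
    ring)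
  have hroot : am Polynomial.X = AdjoinRoot.root f - AdjoinRoot.root f ^ n := by
    have h : f.eval₂ am (AdjoinRoot.root f) = 0 := AdjoinRoot.eval₂_root f
    simp only [f, Polynomial.eval₂_sub, Polynomial.eval₂_X_pow, Polynomial.eval₂_X, Polynomial.eval₂_C] at h
    linear_combination h
  have hbc : ∀ c, back (am c) = χ' c := fun c => AdjoinRoot.lift_of _
  have hCc : ∀ c, χ' (Polynomial.C c) = Polynomial.C c := fun c => Polynomial.aeval_C _ c
  have h1 : back.comp fwd = RingHom.id _ := by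
    refine Polynomial.ringHom_ext (fun c => ?_) ?_
    · simp only [RingHom.comp_apply, fwd, Polynomial.coe_eval₂RingHom, Polynomial.eval₂_C, hbc, hCc,
        RingHom.id_apply]
    · simp only [RingHom.comp_apply, fwd, Polynomial.coe_eval₂RingHom, Polynomial.eval₂_X, RingHom.id_apply]
      exact AdjoinRoot.lift_root _
  have h2 : fwd.comp χ' = am := by
    refine Polynomial.ringHom_ext (fun c => ?_) ?_
    · simp only [RingHom.comp_apply, hCc, fwd, Polynomial.coe_eval₂RingHom, Polynomial.eval₂_C]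
    · simp only [RingHom.comp_apply, hX, map_sub, map_pow, fwd, Polynomial.coe_eval₂RingHom,
        Polynomial.eval₂_X, hroot]
  have h3 : fwd.comp back = RingHom.id B := by
    refine RingHom.ext fun b => ?_
    obtain ⟨q, rfl⟩ := AdjoinRoot.mk_surjective b
    induction q using Polynomial.induction_on' with
    | add a b ha hb => simp only [map_add, ha, hb]
    | monomial k c =>
      rw [← Polynomial.C_mul_X_pow_eq_monomial, map_mul, map_pow, AdjoinRoot.mk_C, AdjoinRoot.mk_X,
        map_mul, map_pow, RingHom.id_apply]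
      congr 1
      · exact (congrArg fwd (hbc c)).trans (RingHom.congr_fun h2 c)
      · congr 1
        show fwd (back (AdjoinRoot.root f)) = _
        rw [AdjoinRoot.lift_root]
        exact Polynomial.eval₂_X _ _
  let e : R[X] ≃+* B := RingEquiv.ofRingHom fwd back h3 h1
  have hfac : χ = CommRingCat.ofHom am ≫ e.toCommRingCatIso.inv := by
    refine CommRingCat.hom_ext (RingHom.ext fun c => ?_)
    exact ((hbc c)).symm
  have : Module.Finite R[X] B := hf.finite_adjoinRoot
  have : Module.Free R[X] B := hf.free_adjoinRoot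
  have : Module.FinitePresentation R[X] B := Module.finitePresentation_of_projective _ B
  have : Algebra.FinitePresentation R[X] B := Algebra.FinitePresentation.of_finitePresentation _ _
  have : Nontrivial B := AdjoinRoot.nontrivial f hdeg
  have : Flat (Spec.map (CommRingCat.ofHom am)) := by
    rw [HasRingHomProperty.Spec_iff (P := @Flat), CommRingCat.hom_ofHom]
    exact (RingHom.flat_algebraMap_iff (R := R[X]) (S := B)).2 inferInstance
  have : LocallyOfFinitePresentation (Spec.map (CommRingCat.ofHom am)) := by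
    rw [HasRingHomProperty.Spec_iff (P := @LocallyOfFinitePresentation), CommRingCat.hom_ofHom]
    exact (RingHom.finitePresentation_algebraMap (A := R[X]) (B := B)).2 inferInstance
  have : Surjective (Spec.map (CommRingCat.ofHom am)) :=
    ⟨fun q => PrimeSpectrum.comap_surjective_of_faithfullyFlat (A := R[X]) (B := B) q⟩
  rw [hfac, Spec.map_comp]
  exact ⟨inferInstance, inferInstance, inferInstance⟩

/-- The coordinate ring as a polynomial ring. -/
def theta : HA.{u} ≃ₐ[Z.{u}] Polynomial Z.{u} :=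
  AlgEquiv.ofAlgHom (SymmetricAlgebra.lift (LinearMap.toSpanSingleton Z.{u} _ Polynomial.X))
    (Polynomial.aeval (SymmetricAlgebra.ι Z.{u} Z.{u} (ULift.up 1)))
    (Polynomial.algHom_ext (by
      rw [AlgHom.comp_apply, Polynomial.aeval_X, SymmetricAlgebra.lift_ι_apply, AlgHom.id_apply]
      exact one_smul _ _))
    (SymmetricAlgebra.algHom_ext (LinearMap.ext_ring (by
      show Polynomial.aeval _ (SymmetricAlgebra.lift _ (SymmetricAlgebra.ι _ _ 1)) = _
      rw [SymmetricAlgebra.lift_ι_apply, LinearMap.toSpanSingleton_apply, one_smul, Polynomial.aeval_X]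
      rfl)))

/-- `T ↦ T - T ^ n` on the coordinate ring. -/
def psi (n : ℕ) : HA.{u} →+* HA.{u} :=
  (theta.symm.toRingEquiv.toRingHom.comp
    (Polynomial.aeval (R := Z.{u}) (Polynomial.X - Polynomial.X ^ n : Polynomial Z.{u})).toRingHom).comp
    theta.toRingEquiv.toRingHom

theorem psi_ι (n : ℕ) : psi n (SymmetricAlgebra.ι Z.{u} Z.{u} (ULift.up 1)) =
    SymmetricAlgebra.ι Z.{u} Z.{u} (ULift.up 1) - SymmetricAlgebra.ι Z.{u} Z.{u} (ULift.up 1) ^ n := by
  have h : theta (SymmetricAlgebra.ι Z.{u} Z.{u} (ULift.up 1)) = Polynomial.X := by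
    refine (SymmetricAlgebra.lift_ι_apply _ _).trans ?_
    exact one_smul _ _
  show theta.symm (Polynomial.aeval _ (theta _)) = _
  rw [h, Polynomial.aeval_X, map_sub, map_pow, ← h, AlgEquiv.symm_apply_apply]

theorem psi_props (n : ℕ) (hn : 1 < n) :
    Flat (Spec.map (CommRingCat.ofHom (psi.{u} n))) ∧
      LocallyOfFinitePresentation (Spec.map (CommRingCat.ofHom (psi.{u} n))) ∧
      Surjective (Spec.map (CommRingCat.ofHom (psi.{u} n))) := by
  have : IsDomain Z.{u} := MulEquiv.isDomain ℤ ULift.ringEquiv.toMulEquiv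
  obtain ⟨a, b, c⟩ := asMap_props Z.{u} n hn
  have hfac : CommRingCat.ofHom (psi.{u} n) = theta.toRingEquiv.toCommRingCatIso.hom ≫
      CommRingCat.ofHom (Polynomial.aeval (R := Z.{u}) (Polynomial.X - Polynomial.X ^ n : Polynomial Z.{u})).toRingHom ≫
      theta.toRingEquiv.toCommRingCatIso.inv := rfl
  rw [hfac, Spec.map_comp, Spec.map_comp]
  exact ⟨inferInstance, inferInstance, inferInstance⟩

variable {p : ℕ} [Fact p.Prime] {S : Scheme.{u}}
  (F : Red.Ga S ⟶ Red.Ga S) (hF : ∀ (T : Over S) (x : T ⟶ Red.Ga S), Red.gaFn (x ≫ F) = Red.gaFn x ^ p)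

include hF in
theorem isPullback_P :
    IsPullback (show (Red.Ga S).left ⟶ Spec (CommRingCat.of HA.{u}) from pullback.fst _ _)
      (P F).left (Spec.map (CommRingCat.ofHom (psi.{u} p)))
      (show (Red.Ga S).left ⟶ Spec (CommRingCat.of HA.{u}) from pullback.fst _ _) := by
  let q : (Red.Ga S).left ⟶ Spec (CommRingCat.of HA.{u}) := pullback.fst _ _
  let π : Spec (CommRingCat.of HA.{u}) ⟶ Spec (CommRingCat.of Z.{u}) := toZ _
  have hw : (P F).left ≫ q = q ≫ Spec.map (CommRingCat.ofHom (psi.{u} p)) := by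
    refine ext_of_isAffine ?_
    rw [← cancel_epi (Scheme.ΓSpecIso (CommRingCat.of HA.{u})).inv]
    let := Groth.Agent.GmChar.zlAlg Γ((Red.Ga S).left, ⊤)
    let g : ∀ _ : CommRingCat.of HA.{u} ⟶ Γ((Red.Ga S).left, ⊤), HA.{u} →ₐ[Z.{u}] Γ((Red.Ga S).left, ⊤) :=
      fun k => { k.hom with commutes' := fun r => Groth.Agent.GmChar.zl_commutes k.hom r }
    suffices g ((Scheme.ΓSpecIso (CommRingCat.of HA.{u})).inv ≫ ((P F).left ≫ q).appTop) =
        g ((Scheme.ΓSpecIso (CommRingCat.of HA.{u})).inv ≫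
          (q ≫ Spec.map (CommRingCat.ofHom (psi.{u} p))).appTop) from
      CommRingCat.hom_ext (congrArg (fun k => k.toRingHom) this)
    refine SymmetricAlgebra.algHom_ext (LinearMap.ext_ring ?_)
    have h := gaFn_P F hF (𝟙 (Red.Ga S))
    rw [Category.id_comp, gaFn_eq, gaFn_eq] at h
    refine h.trans ?_
    have e : (Scheme.ΓSpecIso (CommRingCat.of HA.{u})).inv ≫
        (q ≫ Spec.map (CommRingCat.ofHom (psi.{u} p))).appTop =
      CommRingCat.ofHom (psi.{u} p) ≫ (Scheme.ΓSpecIso (CommRingCat.of HA.{u})).inv ≫ q.appTop := by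
      rw [Scheme.Hom.comp_appTop, ← Scheme.ΓSpecIso_inv_naturality_assoc]
    show _ = ((Scheme.ΓSpecIso (CommRingCat.of HA.{u})).inv ≫
      (q ≫ Spec.map (CommRingCat.ofHom (psi.{u} p))).appTop).hom (SymmetricAlgebra.ι Z.{u} Z.{u} (ULift.up 1))
    rw [e]
    show _ = ((Scheme.ΓSpecIso (CommRingCat.of HA.{u})).inv ≫ q.appTop).hom
      (psi p (SymmetricAlgebra.ι Z.{u} Z.{u} (ULift.up 1)))
    rw [psi_ι, map_sub, map_pow]
    rfl
  have hl : (P F).left ≫ pullback.snd _ _ = pullback.snd _ _ := Over.w (P F)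
  have big : IsPullback ((P F).left ≫ pullback.snd _ _) q (IsTerminal.from specULiftZIsTerminal S)
      (Spec.map (CommRingCat.ofHom (psi.{u} p)) ≫ π) := by
    have hπ : Spec.map (CommRingCat.ofHom (psi.{u} p)) ≫ π = Red.GaZ.hom :=
      specULiftZIsTerminal.hom_ext _ _
    rw [hl, hπ]
    exact (IsPullback.of_hasPullback _ _).flip
  have hr : IsPullback (pullback.snd _ _) q (IsTerminal.from specULiftZIsTerminal S) π := by
    have hπ : π = Red.GaZ.hom := specULiftZIsTerminal.hom_ext _ _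
    rw [hπ]
    exact (IsPullback.of_hasPullback _ _).flip
  exact (IsPullback.of_right big hw hr).flip

include hF in
theorem isLocallyTrivial :
    NonAbH1.IsLocallyTrivialFor Scheme.fpqcPrecoverage (Over.mk (P F).left : Over (Red.Ga S).left) := by
  obtain ⟨h1, h2, h3⟩ := psi_props.{u} p (Fact.out : p.Prime).one_lt
  have sq := isPullback_P F hF
  have a1 : Flat (P F).left := MorphismProperty.of_isPullback sq h1
  have a2 : LocallyOfFinitePresentation (P F).left := MorphismProperty.of_isPullback sq h2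
  have a3 : Surjective (P F).left := MorphismProperty.of_isPullback sq h3
  refine ⟨Presieve.singleton (P F).left, Scheme.fppfPrecoverage_le_fpqcPrecoverage _ ?_, ?_⟩
  · rw [Scheme.fppfPrecoverage, Scheme.singleton_mem_precoverage_iff]
    exact ⟨a3.surj, a1, a2⟩
  · rintro S' f hf
    cases hf
    exact ⟨𝟙 _, Category.id_comp _⟩

end Cover

end Groth.Agent.RedPts.AS
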