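import Groth.Prelude.Def_Red2
import Groth.Agent.GmChar.Points
import Mathlib

/-! Points of `bc toZ (Spec H)` with values in an arbitrary scheme: ring maps `H → Γ(X)`;
coordinates on `𝔾ₐ` and `𝔾ₘ`. -/

suppress_compilation
universe u

open CategoryTheory MonoidalCategory CartesianMonoidalCategory MonObj GrpObj AlgebraicGeometry Limits WithConv
open scoped CategoryTheory.Obj

namespace Groth.Agent.RedPts

open Groth.Agent.GmChar (zlAlg zl_commutes spMap spMap_mul spMap_injective sp)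

/-- `ℤ` in universe `u` -/
abbrev Z : Type u := ULift.{u} ℤ

variable {S : Scheme.{u}}

/-- the structure map to `Spec ℤ` -/
abbrev toZ (S : Scheme.{u}) : S ⟶ Spec (CommRingCat.of Z.{u}) := IsTerminal.from specULiftZIsTerminal S

variable {H : Type u} [CommRing H] [Algebra Z.{u} H] {X : Over S}

/-- the ring map of a point -/
def ptRing (x : X ⟶ Red.bc (toZ S) (sp Z.{u} H)) : H →+* Γ(X.left, ⊤) :=
  ((Scheme.ΓSpecIso (CommRingCat.of H)).inv ≫
    Scheme.Hom.appTop (show X.left ⟶ Spec (CommRingCat.of H) from x.left ≫ pullback.fst _ _)).hom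

/-- `X` as a scheme over `ℤ` -/
abbrev XZ (X : Over S) : Over (Spec (CommRingCat.of Z.{u})) := (Over.map (toZ S)).obj X

/-- the canonical map to the spectrum of global functions -/
def toΓ (X : Over S) : letI := zlAlg Γ(X.left, ⊤); XZ X ⟶ sp Z.{u} Γ(X.left, ⊤) :=
  letI := zlAlg Γ(X.left, ⊤)
  Over.homMk X.left.toSpecΓ (specULiftZIsTerminal.hom_ext _ _)

/-- the algebra map of a point -/
def ptAlg (x : X ⟶ Red.bc (toZ S) (sp Z.{u} H)) : letI := zlAlg Γ(X.left, ⊤); H →ₐ[Z.{u}] Γ(X.left, ⊤) :=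
  letI := zlAlg Γ(X.left, ⊤)
  { ptRing x with commutes' := fun r => zl_commutes (ptRing x) r }

theorem toΓ_spMap_ptAlg (x : X ⟶ Red.bc (toZ S) (sp Z.{u} H)) : letI := zlAlg Γ(X.left, ⊤)
    toΓ X ≫ spMap (ptAlg x) = ((Over.mapPullbackAdj (toZ S)).homEquiv _ _).symm x := by
  let := zlAlg Γ(X.left, ⊤)
  apply Over.OverMorphism.ext
  show X.left.toSpecΓ ≫ Spec.map (CommRingCat.ofHom (ptRing x)) = x.left ≫ pullback.fst _ _
  rw [ptRing, CommRingCat.ofHom_hom, Spec.map_comp, ← Category.assoc, ← Scheme.toSpecΓ_naturality,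
    Category.assoc, ← SpecMap_ΓSpecIso_hom, ← Spec.map_comp, Iso.inv_hom_id, Spec.map_id, Category.comp_id]
  rfl

theorem toΓ_spMap_injective : letI := zlAlg Γ(X.left, ⊤)
    Function.Injective (fun φ : H →ₐ[Z.{u}] Γ(X.left, ⊤) => toΓ X ≫ spMap φ) := by
  let := zlAlg Γ(X.left, ⊤)
  intro φ ψ h
  have h1 := congrArg (fun f : XZ X ⟶ sp Z.{u} H => f.left) h
  change X.left.toSpecΓ ≫ Spec.map (CommRingCat.ofHom φ.toRingHom) =
    X.left.toSpecΓ ≫ Spec.map (CommRingCat.ofHom ψ.toRingHom) at h1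
  have h2 := congrArg Scheme.Hom.appTop h1
  have key : ∀ f : CommRingCat.of H ⟶ Γ(X.left, ⊤),
      (Scheme.ΓSpecIso (CommRingCat.of H)).inv ≫ (X.left.toSpecΓ ≫ Spec.map f).appTop = f := fun f => by
    rw [Scheme.Hom.comp_appTop, Scheme.toSpecΓ_appTop, Scheme.ΓSpecIso_naturality, Iso.inv_hom_id_assoc]
  have h3 := congrArg ((Scheme.ΓSpecIso (CommRingCat.of H)).inv ≫ ·) h2
  simp only [key] at h3
  exact AlgHom.ext fun a => congr($h3 a)

theorem ptRing_injective : Function.Injective (ptRing : (X ⟶ Red.bc (toZ S) (sp Z.{u} H)) → _) := by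
  let := zlAlg Γ(X.left, ⊤)
  intro x y h
  apply ((Over.mapPullbackAdj (toZ S)).homEquiv _ _).symm.injective
  rw [← toΓ_spMap_ptAlg, ← toΓ_spMap_ptAlg]
  congr 2
  exact AlgHom.ext fun a => congr($h a)

theorem exists_ptRing (φ : H →+* Γ(X.left, ⊤)) : ∃ x : X ⟶ Red.bc (toZ S) (sp Z.{u} H), ptRing x = φ := by
  let := zlAlg Γ(X.left, ⊤)
  let φ' : H →ₐ[Z.{u}] Γ(X.left, ⊤) := { φ with commutes' := fun r => zl_commutes φ r }
  refine ⟨(Over.mapPullbackAdj (toZ S)).homEquiv _ _ (toΓ X ≫ spMap φ'), ?_⟩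
  have h := toΓ_spMap_ptAlg (H := H) ((Over.mapPullbackAdj (toZ S)).homEquiv _ _ (toΓ X ≫ spMap φ'))
  rw [Equiv.symm_apply_apply] at h
  exact congrArg (·.toRingHom) (toΓ_spMap_injective h)

theorem homEquiv_symm_mul {G : Over (Spec (CommRingCat.of Z.{u}))} [GrpObj G]
    (x y : X ⟶ (Over.pullback (toZ S)).obj G) :
    ((Over.mapPullbackAdj (toZ S)).homEquiv X G).symm (x * y) =
      ((Over.mapPullbackAdj (toZ S)).homEquiv X G).symm x *
        ((Over.mapPullbackAdj (toZ S)).homEquiv X G).symm y := by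
  obtain ⟨a, rfl⟩ := ((Over.mapPullbackAdj (toZ S)).homEquiv X G).surjective x
  obtain ⟨b, rfl⟩ := ((Over.mapPullbackAdj (toZ S)).homEquiv X G).surjective y
  rw [Equiv.symm_apply_apply, Equiv.symm_apply_apply, Equiv.symm_apply_eq]
  simp only [Adjunction.homEquiv_unit, Functor.map_mul, MonObj.comp_mul]

end Groth.Agent.RedPts
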